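import Cfsg.Agent.Lib.OddStem.Target
import Cfsg.Agent.Lib.OddStem.RootComm
import Cfsg.Agent.Lib.OddStem.LiftTheta
import Cfsg.Agent.Lib.OmStem.Basic
import Cfsg.Agent.Lib.Schur.SLnStem2
import Cfsg.Agent.Lib.Schur.SpStem.Lift
import Cfsg.Agent.Lib.Classical.StSLn

/-!
# The Levi section and the rank one group in a central extension (module L)

Setting: `σ : Γ →* Ω` surjective, central kernel, `π = iOm ∘ σ`, `q` odd.

`exists_lam`: as `flipSec_of_central` in `OmStem/Bound.lean` (`SpStem.exists_section`, `SLnStem.stem_sl_trivial`); `q` is odd, so no exceptions for `m ≥ 3`.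

`root_comm` (Hua). `X : F → G` additive in the base, all values in `π.range`, and for each unit `u` some `s` with `π s X(t) (π s)⁻¹ = X(u t)`. Claim: lifts of `X(s)`, `X(t)` commute.
`κ(s,t) = ⁅x̃ s, x̃ t⁆` (any lifts; independent of the lifts, central, `SchE6.Can.comm_lift`), biadditive, alternating, `κ(u s, u t) = κ(s, t)` (conjugate by the lift of the scaling).
Let `g(x) = κ(x, 1)`: additive, `g(1) = 1`, `g(1/x) = κ(1/x, 1) = κ(1, x) = g(x)⁻¹` (scale by `x`). For `x ≠ 0, 1`: `x - x² = (1/x + 1/(1-x))⁻¹`, so `g(x - x²) = g(1/x + 1/(1-x))⁻¹ = g(x) g(1 - x) = g(x) g(1) g(x)⁻¹ = 1`, i.e. `g(x²) = g(x)`.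
For `x ≠ 0, -1` also `g(x²) = g(-x) = g(x)⁻¹`. So `g(x)² = 1` for `x ≠ 0, ±1`, also trivially for `x = 0, ±1`. `g` additive: `g(x)^p = g(p x) = 1`, `p` odd: `g = 1`. `κ(s, t) = κ(s/t, 1) = 1`.

`can_root`: `h̃ ∈ Γ` with `π h̃ X(t) (π h̃)⁻¹ = X(-t)`. `x(t) := h̃ x̃(-t/2) h̃⁻¹ x̃(-t/2)⁻¹` lifts `X(-(-t/2)) X(-t/2)⁻¹ = X(t)`, independent of the lift, additive since all lifts commute; if `g` commutes with `h̃`, and `π g` scales `X` by `c`, then `g x(t) g⁻¹ = x(c t)`.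

`exists_M`: `X t = blk b (uu t)`, `Y t = blk b (ll t)`, `h̃ = lam (tt hab (-1))`, scaling by `lam (tt hab u⁻¹)` (`levO_blk`, `kp_uu`, `kp_ll`), `x`, `y` from `can_root`.
`Sys x y` (`Classical.StSL2`): `add_*` ok. `w_x`: `ω = x t * y(-t⁻¹) * x t`, `e(u) = y(-(t⁻² u))⁻¹ ω x(u) ω⁻¹` is central, additive in `u`. `h̃ x(u) h̃⁻¹ = x(-u)`, `h̃ y(u) h̃⁻¹ = y(-u)`, so `h̃ ω h̃⁻¹ = ω⁻¹`, conjugating by `h̃`: `ω⁻¹ x(-u) ω = y(t⁻² u) e(u)`, so `ω⁻¹ x(u) ω = y(-(t⁻² u)) e(u)⁻¹`.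
`π(ω²) = blk b (dd (-1)) = 1` so `ω²` is central and `ω x(u) ω⁻¹ = ω⁻¹ x(u) ω`: `e(u)² = 1`, and `e(u)^p = 1`, so `e = 1`. `w_y` likewise. `Classical.StSL2.exists_theta` (in `Classical/StSLn.lean`, `uu t = Xm t`, `ll t = Ym t`) gives `M`, `π (M g) = blk b g` by `m2_induction`.
`tw`: `lam (tt hab ζ)` commutes with `h̃`: `can_root` equivariance on `uu`, `ll`, then `m2_induction`, `kp_uu`, `kp_ll`.

`theta`: fix `g`. `l ↦ ⁅lam l, M g⁆` is a homomorphism from the stabiliser to the central kernel (`levO_blk` with `Mu l b b 1`). Stabiliser generated by `T_ij`, `i,j ≠ b` (see `fix2_mem` in `PresOm/Fix.lean`, `PresSp/Theta.lean`). Each such `T_ij(c)` is a commutator in the stabiliser: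
`m ≥ 4`: `⁅T_ik(c), T_kj(1)⁆`, `k ∉ {i, j, b}` (`TwoGen`/`PresSp.Mono` commutator formulas). `m = 3`, `q > 3`: `⁅tt(i,j,u), T_ij(c/(u²-1))⁆`, `u² ≠ 0, 1`. This is the only place where `(m, q) ≠ (3, 3)` is used.
Tool: if `⁅a,y⁆`, `⁅b,y⁆` are central then `⁅⁅a,b⁆,y⁆ = 1`.
-/

set_option autoImplicit false

namespace Cfsg.Agent.Lib.OddStem

open Matrix Cfsg Subgroup Cfsg.Agent.Lib.PresOm Cfsg.Agent.Lib.PresSp.M2 Cfsg.Agent.Lib.PresSp.Mono
  Cfsg.Agent.Lib.PresSLn.TwoGen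

universe u

namespace LiftAux

variable {F : Type*} [Field F]

lemma card_ne [Fintype F] (h2 : (2 : F) ≠ 0) : Fintype.card F ≠ 2 ∧ Fintype.card F ≠ 4 := by
  have h0 := FiniteField.cast_card_eq_zero F
  constructor
  · intro h
    rw [h] at h0
    exact h2 (by exact_mod_cast h0)
  · intro h
    rw [h] at h0
    have h3 : (2 : F) * 2 = 0 := by
      have e : (2 : F) * 2 = ((4 : ℕ) : F) := by push_cast; ring
      rw [e, h0]
    exact h2 (by simpa using h3)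

lemma mu_tt {ι : Type*} [Fintype ι] [DecidableEq ι] {a b : ι} (hab : a ≠ b) (ζ : Fˣ) :
    Mu (tt hab ζ) b b ζ⁻¹ := by
  constructor
  · rw [coe_tt]
    ext i
    rw [mulVec_diagonal]
    by_cases hi : i = b
    · subst hi
      simp [td, hab.symm]
    · simp [Pi.single_apply, hi]
  · rw [coe_tt]
    ext i
    rw [vecMul_diagonal]
    by_cases hi : i = b
    · subst hi
      simp [td, hab.symm]
    · simp [Pi.single_apply, hi]

lemma wx_coe {t : F} (ht : t ≠ 0) :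
    (uu t * ll (-t⁻¹) * uu t).1 = !![0, t; -t⁻¹, 0] := by
  have h : t * t⁻¹ = 1 := mul_inv_cancel₀ ht
  have h' : t⁻¹ * t = 1 := inv_mul_cancel₀ ht
  simp only [Cfsg.Agent.Lib.PresSp.M2.coe_mul, coe_uu, coe_ll, Matrix.mul_fin_two]
  ext i j
  fin_cases i <;> fin_cases j <;> simp [h, h', mul_neg]

lemma wy_coe {t : F} (ht : t ≠ 0) :
    (ll t * uu (-t⁻¹) * ll t).1 = !![0, -t⁻¹; t, 0] := by
  have h : t * t⁻¹ = 1 := mul_inv_cancel₀ ht
  have h' : t⁻¹ * t = 1 := inv_mul_cancel₀ ht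
  simp only [Cfsg.Agent.Lib.PresSp.M2.coe_mul, coe_uu, coe_ll, Matrix.mul_fin_two]
  ext i j
  fin_cases i <;> fin_cases j <;> simp [h, h', mul_neg]

lemma wx_conj {t : F} (ht : t ≠ 0) (u : F) :
    (uu t * ll (-t⁻¹) * uu t) * uu u * (uu t * ll (-t⁻¹) * uu t)⁻¹ = ll (-(t⁻¹ ^ 2 * u)) := by
  have h : t * t⁻¹ = 1 := mul_inv_cancel₀ ht
  have h' : t⁻¹ * t = 1 := inv_mul_cancel₀ ht
  rw [mul_inv_eq_iff_eq_mul]
  have hw := wx_coe ht
  generalize uu t * ll (-t⁻¹) * uu t = W at hw ⊢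
  apply Subtype.ext
  simp only [Cfsg.Agent.Lib.PresSp.M2.coe_mul _ _, hw, coe_uu, coe_ll, Matrix.mul_fin_two]
  ext i j
  fin_cases i <;> fin_cases j <;> simp <;> field_simp

lemma wy_conj {t : F} (ht : t ≠ 0) (u : F) :
    (ll t * uu (-t⁻¹) * ll t) * ll u * (ll t * uu (-t⁻¹) * ll t)⁻¹ = uu (-(t⁻¹ ^ 2 * u)) := by
  have h : t * t⁻¹ = 1 := mul_inv_cancel₀ ht
  have h' : t⁻¹ * t = 1 := inv_mul_cancel₀ ht
  rw [mul_inv_eq_iff_eq_mul]
  have hw := wy_coe ht
  generalize ll t * uu (-t⁻¹) * ll t = W at hw ⊢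
  apply Subtype.ext
  simp only [Cfsg.Agent.Lib.PresSp.M2.coe_mul _ _, hw, coe_uu, coe_ll, Matrix.mul_fin_two]
  ext i j
  fin_cases i <;> fin_cases j <;> simp <;> field_simp

lemma wx_sq {t : F} (ht : t ≠ 0) : (uu t * ll (-t⁻¹) * uu t) * (uu t * ll (-t⁻¹) * uu t) = dd (-1) := by
  have h : t * t⁻¹ = 1 := mul_inv_cancel₀ ht
  have h' : t⁻¹ * t = 1 := inv_mul_cancel₀ ht
  have hw := wx_coe ht
  generalize uu t * ll (-t⁻¹) * uu t = W at hw ⊢
  apply Subtype.ext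
  simp only [Cfsg.Agent.Lib.PresSp.M2.coe_mul _ _, hw, coe_dd, Matrix.mul_fin_two]
  ext i j
  fin_cases i <;> fin_cases j <;> simp [h, h']

lemma wy_sq {t : F} (ht : t ≠ 0) : (ll t * uu (-t⁻¹) * ll t) * (ll t * uu (-t⁻¹) * ll t) = dd (-1) := by
  have h : t * t⁻¹ = 1 := mul_inv_cancel₀ ht
  have h' : t⁻¹ * t = 1 := inv_mul_cancel₀ ht
  have hw := wy_coe ht
  generalize ll t * uu (-t⁻¹) * ll t = W at hw ⊢
  apply Subtype.ext
  simp only [Cfsg.Agent.Lib.PresSp.M2.coe_mul _ _, hw, coe_dd, Matrix.mul_fin_two]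
  ext i j
  fin_cases i <;> fin_cases j <;> simp [h, h']

end LiftAux

section root

variable {Γ G : Type*} [Group Γ] [Group G] {π : Γ →* G} {F : Type*} [Field F] [Fintype F]

/-- Lifts of a root group with a full scaling commute. -/
theorem root_comm (hcen : π.ker ≤ center Γ) (h2 : (2 : F) ≠ 0) {X : F → G} (hadd : ∀ s t, X (s + t) = X s * X t)
    (hr : ∀ t, X t ∈ π.range) (hs : ∀ u : Fˣ, ∃ s : Γ, ∀ t, π s * X t * (π s)⁻¹ = X ((u : F) * t))
    {a b : Γ} {s t : F} (ha : π a = X s) (hb : π b = X t) : Commute a b := by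
  exact RootComm.root_comm hcen h2 hadd hr hs ha hb

/-- The canonical lift of a root group. -/
theorem can_root (hcen : π.ker ≤ center Γ) (h2 : (2 : F) ≠ 0) {X : F → G} (hadd : ∀ s t, X (s + t) = X s * X t)
    (hr : ∀ t, X t ∈ π.range) (hs : ∀ u : Fˣ, ∃ s : Γ, ∀ t, π s * X t * (π s)⁻¹ = X ((u : F) * t))
    {h : Γ} (hh : ∀ t, π h * X t * (π h)⁻¹ = X (-t)) :
    ∃ x : F → Γ, (∀ t, π (x t) = X t) ∧ (∀ s t, x (s + t) = x s * x t) ∧
      ∀ (g : Γ) (c : F), Commute g h → (∀ t, π g * X t * (π g)⁻¹ = X (c * t)) → ∀ t, g * x t * g⁻¹ = x (c * t) := by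
  exact RootComm.can_root hcen h2 hadd hr hs hh

end root

section main

variable {m : ℕ} {F : Type u} [Field F] [Fintype F] {Γ : Type u} [Group Γ] [Finite Γ]
  {σ : Γ →* Omega F (quadFormOdd m F)}

/-- The Levi subgroup lifts. -/
theorem exists_lam (hm : 3 ≤ m) (h2 : (2 : F) ≠ 0) (hs : Function.Surjective σ) (hcen : σ.ker ≤ center Γ) :
    ∃ lam : SpecialLinearGroup (Fin m) F →* Γ, ∀ l, iOm (σ (lam l)) = levO l := by
  classical
  have hl : ∀ l, (levO l) ∈ (iOm : Omega F (quadFormOdd m F) →* _).range := by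
    intro l
    rw [iOm_range]
    exact levO_mem_omega hm h2 l
  let e := MonoidHom.ofInjective (iOm_inj (m := m) (F := F))
  let ρ : SpecialLinearGroup (Fin m) F →* Omega F (quadFormOdd m F) :=
    e.symm.toMonoidHom.comp ((levO (m := m) (F := F)).codRestrict _ hl)
  have hρ : ∀ l, iOm (ρ l) = levO l := fun l =>
    congrArg Subtype.val (e.apply_symm_apply ((levO (m := m) (F := F)).codRestrict _ hl l))
  have hK : commutator (SpecialLinearGroup (Fin m) F) = ⊤ :=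
    Cfsg.Agent.Lib.Classical.Transvections.commutator_sl_eq_top (F := F) (by rw [Fintype.card_fin]; omega)
  obtain ⟨s, hs'⟩ := Cfsg.Agent.Lib.Schur.SpStem.exists_section (ρ := ρ) hs hcen hK (by
      intro Δ _ _ τ hτ z hz
      exact Cfsg.Agent.Lib.Schur.SLnStem.stem_sl_trivial hτ (by rw [Fintype.card_fin]; omega)
        (fun _ => LiftAux.card_ne h2) (fun _ => (LiftAux.card_ne h2).1) hz)
  exact ⟨s, fun l => by rw [hs', hρ]⟩

/-- The rank one group lifts, with the torus action. -/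
theorem exists_M (hm : 3 ≤ m) (h2 : (2 : F) ≠ 0) (hs : Function.Surjective σ) (hcen : σ.ker ≤ center Γ)
    (lam : SpecialLinearGroup (Fin m) F →* Γ) (hlam : ∀ l, iOm (σ (lam l)) = levO l) {a b : Fin m} (hab : a ≠ b) :
    ∃ M : M2 F →* Γ, (∀ g, iOm (σ (M g)) = blk b g) ∧
      ∀ (ζ : Fˣ) (g : M2 F), lam (tt hab ζ) * M g * (lam (tt hab ζ))⁻¹ = M (kp ζ⁻¹ g) := by
  classical
  set π : Γ →* GeneralLinearGroup (VO m) F := iOm.comp σ with hπ
  have hπe : ∀ x, π x = iOm (σ x) := fun _ => rfl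
  have hcenπ : π.ker ≤ center Γ := by
    intro x hx
    apply hcen
    rw [MonoidHom.mem_ker] at *
    exact iOm_inj (by simpa [hπ] using hx)
  have hconj : ∀ (ζ : Fˣ) (g : M2 F),
      π (lam (tt hab ζ)) * blk b g * (π (lam (tt hab ζ)))⁻¹ = blk b (kp ζ⁻¹ g) := by
    intro ζ g
    rw [hπe, hlam]
    exact levO_blk h2 (LiftAux.mu_tt hab ζ) g
  have hrange : ∀ g, blk b g ∈ π.range := by
    intro g
    have h1 : blk b g ∈ (iOm : Omega F (quadFormOdd m F) →* _).range := by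
      rw [iOm_range]
      exact blk_mem_omega hm h2 b g
    obtain ⟨w, hw⟩ := h1
    obtain ⟨γ, rfl⟩ := hs w
    exact ⟨γ, hw⟩
  set h := lam (tt hab (-1)) with hh
  have hX : ∀ (ζ : Fˣ) (t : F), π (lam (tt hab ζ)) * blk b (uu t) * (π (lam (tt hab ζ)))⁻¹ =
      blk b (uu (((ζ⁻¹ : Fˣ) : F) * t)) := by
    intro ζ t
    rw [hconj, kp_uu]
  have hY : ∀ (ζ : Fˣ) (t : F), π (lam (tt hab ζ)) * blk b (ll t) * (π (lam (tt hab ζ)))⁻¹ =
      blk b (ll ((ζ : F) * t)) := by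
    intro ζ t
    rw [hconj, kp_ll, inv_inv]
  have hXadd : ∀ s t : F, blk b (uu (s + t)) = blk b (uu s) * blk b (uu t) := by
    intro s t
    rw [uu_add, map_mul]
  have hYadd : ∀ s t : F, blk b (ll (s + t)) = blk b (ll s) * blk b (ll t) := by
    intro s t
    rw [ll_add, map_mul]
  have hXh : ∀ t : F, π h * blk b (uu t) * (π h)⁻¹ = blk b (uu (-1 * t)) := by
    intro t
    have := hX (-1) t
    simpa using this
  have hYh : ∀ t : F, π h * blk b (ll t) * (π h)⁻¹ = blk b (ll (-1 * t)) := by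
    intro t
    have := hY (-1) t
    simpa using this
  obtain ⟨x, hx1, hx2, hx3⟩ := can_root (X := fun t => blk b (uu t)) hcenπ h2 hXadd
    (fun t => hrange _)
    (fun u => ⟨lam (tt hab u⁻¹), fun t => by simpa using hX u⁻¹ t⟩) (h := h)
    (fun t => by simpa using hXh t)
  obtain ⟨y, hy1, hy2, hy3⟩ := can_root (X := fun t => blk b (ll t)) hcenπ h2 hYadd
    (fun t => hrange _)
    (fun u => ⟨lam (tt hab u), fun t => hY u t⟩) (h := h)
    (fun t => by simpa using hYh t)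
  have hhx : ∀ u, h * x u * h⁻¹ = x (-u) := by
    intro u
    have := hx3 h (-1) (Commute.refl h) hXh u
    simpa using this
  have hhy : ∀ u, h * y u * h⁻¹ = y (-u) := by
    intro u
    have := hy3 h (-1) (Commute.refl h) hYh u
    simpa using this
  have S : Cfsg.Agent.Lib.Classical.StSL2.Sys x y := by
    refine ⟨hx2, hy2, ?_, ?_⟩
    · intro t u ht
      refine RootComm.w_rel hcenπ h2 hx2 hy2 hhx hhy t ?_ ?_ u
      · intro v
        simp only [map_mul, map_inv, hx1, hy1]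
        simp only [← map_mul, ← map_inv]
        rw [LiftAux.wx_conj ht]
      · simp only [map_mul, hx1, hy1]
        simp only [← map_mul]
        rw [LiftAux.wx_sq ht, blk_neg]
    · intro t u ht
      refine RootComm.w_rel hcenπ h2 hy2 hx2 hhy hhx t ?_ ?_ u
      · intro v
        simp only [map_mul, map_inv, hx1, hy1]
        simp only [← map_mul, ← map_inv]
        rw [LiftAux.wy_conj ht]
      · simp only [map_mul, hx1, hy1]
        simp only [← map_mul]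
        rw [LiftAux.wy_sq ht, blk_neg]
  obtain ⟨θ, hθx, hθy⟩ := Cfsg.Agent.Lib.Classical.StSLn.exists_theta S
  have hθuu : ∀ t, θ (uu t) = x t := fun t => hθx t
  have hθll : ∀ t, θ (ll t) = y t := fun t => hθy t
  refine ⟨θ, ?_, ?_⟩
  · intro g
    show π (θ g) = blk b g
    refine m2_induction (P := fun g => π (θ g) = blk b g) ?_ ?_ ?_ ?_ ?_ g
    · simp
    · intro d
      show π (θ (uu d)) = _
      rw [hθuu, hx1]
    · intro d
      show π (θ (ll d)) = _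
      rw [hθll, hy1]
    · intro g₁ g₂ h₁ h₂
      simp only [map_mul, h₁, h₂]
    · intro g₁ h₁
      simp only [map_inv, h₁]
  · intro ζ g
    set g' := lam (tt hab ζ) with hg'
    have hcomm : Commute g' h := by
      show lam (tt hab ζ) * lam (tt hab (-1)) = lam (tt hab (-1)) * lam (tt hab ζ)
      rw [← map_mul, ← map_mul, ← tt_mul, ← tt_mul, mul_comm]
    refine m2_induction (P := fun g => g' * θ g * g'⁻¹ = θ (kp ζ⁻¹ g)) ?_ ?_ ?_ ?_ ?_ g
    · simp
    · intro d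
      rw [kp_uu, hθuu, hθuu]
      exact hx3 g' _ hcomm (hX ζ) d
    · intro d
      rw [kp_ll, hθll, hθll, inv_inv]
      exact hy3 g' _ hcomm (hY ζ) d
    · intro g₁ g₂ h₁ h₂
      rw [map_mul, map_mul, map_mul, ← h₁, ← h₂]
      group
    · intro g₁ h₁
      rw [map_inv, map_inv, map_inv, ← h₁]
      group

/-- The data and the first relations. -/
theorem exists_theta_data (hm : 3 ≤ m) (h2 : (2 : F) ≠ 0) (hexc : ¬ (m = 3 ∧ Fintype.card F = 3))
    (hs : Function.Surjective σ) (hcen : σ.ker ≤ center Γ) :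
    ∃ D : BData (Fin m) F Γ, BTheta D ∧ (∀ l, iOm (σ (D.lam l)) = levO l) ∧ (∀ g, iOm (σ (D.M g)) = blk D.b g) := by
  obtain ⟨lam, hlam⟩ := exists_lam hm h2 hs hcen
  have hab : (⟨0, by omega⟩ : Fin m) ≠ ⟨1, by omega⟩ := by simp [Fin.ext_iff]
  obtain ⟨M, hM, htw⟩ := exists_M hm h2 hs hcen lam hlam hab
  refine ⟨⟨lam, M, _, _, hab⟩, ⟨?_, htw⟩, hlam, hM⟩
  intro l h1 h3 g
  exact lift_theta hm h2 hexc hcen lam hlam M hM l h1 h3 g

end main

end Cfsg.Agent.Lib.OddStem
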