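import Cfsg.Agent.Lib.OddStem.Lift
import Cfsg.Agent.Lib.OddStem.Abs

/-!
# The relations in a central extension (module R)

Setting: `π : Γ →* GL(V)`, central kernel, `D` with `BTheta D`, over the target (`pi_Mf`, `eich_pi_*`).

Tools. `comm_of_comm`: if `⁅a,y⁆`, `⁅b,y⁆` are central then `y` commutes with `⁅a,b⁆`.
`scale_eq` (defect killed by scaling): `f f' : F → Γ`, `π (f t) = π (f' t)`, `f (t+t) = f t * f t`, same for `f'`, `(f t)⁻¹ * f' t` central, `s f t s⁻¹ = f (2t)`, `s f' t s⁻¹ = f' (2t)`: then `f = f'`.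
  Proof: `d t = (f t)⁻¹ f' t` is central, `d (2t) = d t ^ 2`, `s (d t) s⁻¹ = d t`, and it is `d (2t)`. So `d t = 1`.
The scaling elements: for `l ∉ {k, j}`: `h = lam (tt (k,l) 2)`. It commutes with `Mf j g` (`BTheta.mu` with `Mu h j j 1`), so with `r_j`. `Mu h k k 2`, so `h Mf k g h⁻¹ = Mf k (kp 2 g)`; `h T_kj(y) h⁻¹ = T_kj(2 y)` (`tt_conj`). So `h Y_k(z) h⁻¹ = Y_k(2 z)`, `h Z_kj(x) h⁻¹ = Z_kj(2 x)`, `h Ek(x,z,y) h⁻¹ = Ek(2x,2z,2y)`.

* `twist`: on `uu t`: `f t = r_j Y_i(t) r_j⁻¹`, `f' t = Y_i(-t)`, `s = lam (tt (i,l) 2)`, `l ∉ {i,j}`, `scale_eq`. On `ll t`: same with `s = lam (tt (i,l) 2⁻¹)`. Then `m2_induction`. Target: `blk_twist`.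
* `comm_YT`: `T_kj(y) = ⁅T_kl(y), T_lj(1)⁆`, `l ∉ {k,j}`; in the target `T_kl`, `T_lj` commute with `Y_k` (`Eich.conj`, they fix `e_k`, `u₀`). `comm_of_comm`.
* `comm_YZ`: conjugate `comm_YT` by `r_j`, `twist`.
* `comm_ZT`: `s = Y_j(1)`. In the target `s Y_k(z) s⁻¹` and `Z_kj(2z) Y_k(z)` have the same image (`Eich.conj`, `blk_vec`: `adX (uu 1) 0 z 0 = 2 z`), `s T_kj(y) s⁻¹` and `Z_kj(-y) Y_k(-y) T_kj(y)` too (`adX (uu 1) 0 0 y = -y`, `adZ = -y`). Those elements commute as `Y_k`, `T_kj` commute. Drop the central factors: `Z_kj(2z) Y_k(z)` commutes with `Z_kj(-y) Y_k(-y) T_kj(y)`. As `Y_k` commutes with `Z_kj`, `T_kj` and `Z_kj` is additive, `Z_kj(2z)` commutes with `T_kj(y)`. `2` is invertible.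
* `Ek_add`: from the commutations, `Ek h (x+x') (z+z') (y+y') = Ek h x z y * Ek h x' z' y'`.
* `act`: `f v = Mf j g Ek(v) (Mf j g)⁻¹`, `f' v = Ek(Ad g v)`, `s = lam (tt (k,l) 2)`: `scale_eq` on triples `v` (or, fix `v`, put `f t = ...(t v)`). Target: `blk_eO_ne`, `blk_vec`, `Eich.conj`, `eich_pi_Ek`, `Eich.unique'`.
* `alt`: `f c = Z_kj(c)`, `f' c = Z_jk(-c)`. Target: `Eich` of `Z_kj(c)`, `Z_jk(-c)` agree (direct check of `Eich`: both `x ↦ x + c y_j e_k - c y_k e_j`). `s = lam (tt (k,l) 2)`, `l ∉ {j,k}`: on `Z_kj` scaling above. On `Z_jk(c') = r_k T_jk(-c') r_k⁻¹`: `s r_k s⁻¹ = Mf k (kp 2 wn) = Mf k (dd 2) r_k`, `s T_jk(y) s⁻¹ = T_jk(y/2)`, so `s Z_jk(c') s⁻¹ = Mf k (dd 2) Z_jk(c'/2) (Mf k (dd 2))⁻¹ = Z_jk(4 c'/2)` by `act` for the pair `(j,k)`.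
-/

set_option autoImplicit false

namespace Cfsg.Agent.Lib.OddStem

open Matrix Cfsg Subgroup Cfsg.Agent.Lib.PresOm Cfsg.Agent.Lib.PresSp.M2 Cfsg.Agent.Lib.PresSp.Mono
  Cfsg.Agent.Lib.PresSLn.TwoGen Cfsg.Agent.Lib.GeoOmega.Eichler Cfsg.Agent.Lib.QuadFn Cfsg.Agent.Lib.OmDeg.Plus Cfsg.Geo
  Cfsg.Agent.Lib.Geo.QForm Cfsg.Agent.Lib.Orth.Levi

section tools

variable {Γ G : Type*} [Group Γ] [Group G] {π : Γ →* G}

/-- The commutator of two elements commuting with `y` up to central elements commutes with `y`. -/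
lemma comm_of_comm {a b y : Γ} (ha : a * y * a⁻¹ * y⁻¹ ∈ center Γ) (hb : b * y * b⁻¹ * y⁻¹ ∈ center Γ) :
    Commute (a * b * a⁻¹ * b⁻¹) y := by
  set c := a * y * a⁻¹ * y⁻¹ with hc
  set d := b * y * b⁻¹ * y⁻¹ with hd
  have ea : a * y * a⁻¹ = c * y := by rw [hc]; group
  have eb : b * y * b⁻¹ = d * y := by rw [hd]; group
  have ea' : a⁻¹ * y * a = c⁻¹ * y := by
    have e1 : y = a⁻¹ * (c * y) * a := by rw [← ea]; group
    have e2 := mem_center_iff.1 ha a⁻¹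
    calc a⁻¹ * y * a = a⁻¹ * (c⁻¹ * (c * y)) * a := by group
      _ = (a⁻¹ * c⁻¹) * (c * y) * a := by group
      _ = (c⁻¹ * a⁻¹) * (c * y) * a := by
        rw [(mem_center_iff.1 (inv_mem ha) a⁻¹).symm]
      _ = c⁻¹ * (a⁻¹ * (c * y) * a) := by group
      _ = c⁻¹ * y := by rw [← e1]
  have eb' : b⁻¹ * y * b = d⁻¹ * y := by
    have e1 : y = b⁻¹ * (d * y) * b := by rw [← eb]; group
    calc b⁻¹ * y * b = b⁻¹ * (d⁻¹ * (d * y)) * b := by group
      _ = (b⁻¹ * d⁻¹) * (d * y) * b := by group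
      _ = (d⁻¹ * b⁻¹) * (d * y) * b := by
        rw [(mem_center_iff.1 (inv_mem hb) b⁻¹).symm]
      _ = d⁻¹ * (b⁻¹ * (d * y) * b) := by group
      _ = d⁻¹ * y := by rw [← e1]
  -- conjugate `y` step by step
  have key : (a * b * a⁻¹ * b⁻¹) * y * (a * b * a⁻¹ * b⁻¹)⁻¹ = y := by
    have e : (a * b * a⁻¹ * b⁻¹) * y * (a * b * a⁻¹ * b⁻¹)⁻¹ = a * (b * (a⁻¹ * (b⁻¹ * y * b) * a) * b⁻¹) * a⁻¹ := by
      group
    rw [e, eb']
    have hd' := mem_center_iff.1 (inv_mem hb)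
    have hc' := mem_center_iff.1 (inv_mem ha)
    have e2 : a⁻¹ * (d⁻¹ * y) * a = d⁻¹ * (c⁻¹ * y) := by
      calc a⁻¹ * (d⁻¹ * y) * a = (a⁻¹ * d⁻¹) * y * a := by group
        _ = (d⁻¹ * a⁻¹) * y * a := by rw [(hd' a⁻¹).symm]
        _ = d⁻¹ * (a⁻¹ * y * a) := by group
        _ = _ := by rw [ea']
    rw [e2]
    have e3 : b * (d⁻¹ * (c⁻¹ * y)) * b⁻¹ = d⁻¹ * (c⁻¹ * (d * y)) := by
      calc b * (d⁻¹ * (c⁻¹ * y)) * b⁻¹ = (b * d⁻¹) * (c⁻¹ * y) * b⁻¹ := by group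
        _ = (d⁻¹ * b) * (c⁻¹ * y) * b⁻¹ := by rw [hd' b]
        _ = d⁻¹ * ((b * c⁻¹) * y * b⁻¹) := by group
        _ = d⁻¹ * ((c⁻¹ * b) * y * b⁻¹) := by rw [hc' b]
        _ = d⁻¹ * (c⁻¹ * (b * y * b⁻¹)) := by group
        _ = _ := by rw [eb]
    rw [e3]
    have e4 : d⁻¹ * (c⁻¹ * (d * y)) = c⁻¹ * y := by
      calc d⁻¹ * (c⁻¹ * (d * y)) = (d⁻¹ * c⁻¹) * d * y := by group
        _ = (c⁻¹ * d⁻¹) * d * y := by rw [(hc' d⁻¹).symm]
        _ = _ := by group
    rw [e4]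
    have e5 : a * (c⁻¹ * y) * a⁻¹ = c⁻¹ * (a * y * a⁻¹) := by
      calc a * (c⁻¹ * y) * a⁻¹ = (a * c⁻¹) * y * a⁻¹ := by group
        _ = (c⁻¹ * a) * y * a⁻¹ := by rw [hc' a]
        _ = _ := by group
    rw [e5, ea]
    group
  exact (mul_inv_eq_iff_eq_mul.1 key)

/-- A defect killed by scaling. -/
lemma scale_eq {A : Type*} [Add A] {f f' : A → Γ} (hf : ∀ t, f (t + t) = f t * f t) (hf' : ∀ t, f' (t + t) = f' t * f' t)
    (hc : ∀ t, (f t)⁻¹ * f' t ∈ center Γ) {s : Γ} (hs : ∀ t, s * f t * s⁻¹ = f (t + t)) (hs' : ∀ t, s * f' t * s⁻¹ = f' (t + t))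
    (t : A) : f t = f' t := by
  set d := (f t)⁻¹ * f' t with hd
  have hdc := hc t
  have e1 : (f (t + t))⁻¹ * f' (t + t) = d * d := by
    rw [hf, hf', hd]
    have h := mem_center_iff.1 hdc
    calc (f t * f t)⁻¹ * (f' t * f' t) = (f t)⁻¹ * ((f t)⁻¹ * f' t) * f' t := by group
      _ = (f t)⁻¹ * d * f' t := by rw [hd]
      _ = d * (f t)⁻¹ * f' t := by rw [(h _).symm]
      _ = _ := by rw [hd]; group
  have hsd : s * d = d * s := mem_center_iff.1 hdc s
  have e2 : s * d * s⁻¹ = d := by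
    rw [hsd]
    group
  have e3 : s * d * s⁻¹ = (f (t + t))⁻¹ * f' (t + t) := by
    rw [← hs, ← hs', hd]
    group
  rw [e2, e1] at e3
  have : d = 1 := by
    have h4 : d * d = d * 1 := by rw [← e3, mul_one]
    exact mul_left_cancel h4
  rw [hd] at this
  exact (inv_mul_eq_one.1 this)

/-- Elements over the same element differ by a central element. -/
lemma inv_mul_mem_center {Γ' G' : Type*} [Group Γ'] [Group G'] {π' : Γ' →* G'} (hcen : π'.ker ≤ center Γ') {a b : Γ'}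
    (h : π' a = π' b) : a⁻¹ * b ∈ center Γ' := by
  apply hcen
  rw [MonoidHom.mem_ker, map_mul, map_inv, h, inv_mul_cancel]

end tools

section scale

variable {ι : Type*} [Fintype ι] [DecidableEq ι] {F : Type*} [Field F] {Γ : Type*} [Group Γ] {D : BData ι F Γ}

lemma mu_of_mv_one {l : SpecialLinearGroup ι F} {k : ι} (h : Mv l k k 1) : Mu l k k 1 :=
  ⟨by simpa using h.col, by simpa using h.row⟩

/-- The torus element at `(k, l)` on the index `k`. -/
lemma mu_tt_left {k l : ι} (hkl : k ≠ l) (u : Fˣ) : Mu (tt hkl u) k k u where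
  col := by
    rw [coe_tt]
    ext r
    rw [mulVec_single_one]
    change diagonal (td k l u) r k = _
    by_cases h : r = k
    · subst h
      simp [td]
    · simp [diagonal_apply, h, Pi.single_apply]
  row := by
    rw [coe_tt]
    ext r
    rw [single_one_vecMul]
    change diagonal (td k l u) k r = _
    by_cases h : r = k
    · subst h
      simp [td]
    · have : ¬ k = r := fun e => h e.symm
      simp [diagonal_apply, h, this, Pi.single_apply]

variable (Hθ : BTheta D)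
include Hθ

/-- The torus element commutes with the rank one groups at the other indices. -/
lemma scale_comm {k l j : ι} (hkl : k ≠ l) (hjk : j ≠ k) (hjl : j ≠ l) (u : Fˣ) (g : M2 F) :
    Commute (D.lam (tt hkl u)) (D.Mf j g) := by
  have h := Hθ.mu (mu_of_mv_one (mv_tt_fix hkl u hjk hjl)) g
  rw [Cfsg.Agent.Lib.PresOm.kp_one] at h
  exact (mul_inv_eq_iff_eq_mul.1 h)

lemma scale_Y {k l : ι} (hkl : k ≠ l) (u : Fˣ) (z : F) :
    D.lam (tt hkl u) * D.Y k z * (D.lam (tt hkl u))⁻¹ = D.Y k ((u : F) * z) := by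
  have h := Hθ.mu (mu_tt_left hkl u) (uu z)
  rw [Cfsg.Agent.Lib.PresOm.kp_uu] at h
  exact h

omit Hθ in
lemma scale_T {k l j : ι} (hkl : k ≠ l) (h : k ≠ j) (hjl : j ≠ l) (u : Fˣ) (y : F) :
    D.lam (tt hkl u) * D.T h y * (D.lam (tt hkl u))⁻¹ = D.T h ((u : F) * y) := by
  have e := tt_conj hkl u h y
  have e1 : td k l u k = (u : F) := by simp [td]
  have e2 : td k l u j = 1 := by simp [td, h.symm, hjl]
  rw [e1, e2, inv_one, mul_one] at e
  simp only [BData.T]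
  rw [← map_inv, ← map_mul, ← map_mul]
  exact congrArg D.lam e

lemma scale_Z {k l j : ι} (hkl : k ≠ l) (h : k ≠ j) (hjl : j ≠ l) (u : Fˣ) (x : F) :
    D.lam (tt hkl u) * D.Z h x * (D.lam (tt hkl u))⁻¹ = D.Z h ((u : F) * x) := by
  have hc : Commute (D.lam (tt hkl u)) (D.rr j) := scale_comm Hθ hkl h.symm hjl u wn
  have e := scale_T (D := D) hkl h hjl u (-x)
  simp only [BData.Z]
  set s := D.lam (tt hkl u)
  have h1 : s * D.rr j = D.rr j * s := hc.eq
  have h3 : (D.rr j)⁻¹ * s⁻¹ = s⁻¹ * (D.rr j)⁻¹ := by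
    rw [← _root_.mul_inv_rev, ← _root_.mul_inv_rev, h1]
  calc s * (D.rr j * D.T h (-x) * (D.rr j)⁻¹) * s⁻¹
      = (s * D.rr j) * D.T h (-x) * ((D.rr j)⁻¹ * s⁻¹) := by group
    _ = (D.rr j * s) * D.T h (-x) * (s⁻¹ * (D.rr j)⁻¹) := by rw [h1, h3]
    _ = D.rr j * (s * D.T h (-x) * s⁻¹) * (D.rr j)⁻¹ := by group
    _ = _ := by rw [e, mul_neg]

lemma scale_Ek {k l j : ι} (hkl : k ≠ l) (h : k ≠ j) (hjl : j ≠ l) (u : Fˣ) (x z y : F) :
    D.lam (tt hkl u) * D.Ek h x z y * (D.lam (tt hkl u))⁻¹ =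
      D.Ek h ((u : F) * x) ((u : F) * z) ((u : F) * y) := by
  simp only [BData.Ek]
  rw [← scale_Z Hθ hkl h hjl u x, ← scale_Y Hθ hkl u z, ← scale_T (D := D) hkl h hjl u y]
  group

end scale

section vectors

variable {m : ℕ} {F : Type*} [Field F]

/-- An Eichler transformation fixes the vectors orthogonal to its centre and its parameter. -/
lemma eich_fix {ι' : Type} [Fintype ι'] [DecidableEq ι'] {Q : (ι' → F) → F} {g : GeneralLinearGroup ι' F} {p b x : ι' → F}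
    (h : Eich Q g p b) (h1 : pol Q x b = 0) (h3 : pol Q x p = 0) : (g : Matrix ι' ι' F) *ᵥ x = x := by
  rw [h x, h1, h3]
  simp

end vectors

section main

set_option linter.unusedSectionVars false

variable {m : ℕ} {F : Type*} [Field F] [Fintype F] {Γ : Type*} [Group Γ] {π : Γ →* GeneralLinearGroup (VO m) F}
  {D : BData (Fin m) F Γ}

section targets

omit [Fintype F]

variable (h2 : (2 : F) ≠ 0)
include h2

/-- The Levi root elements fix the vectors `e_k`, `k ≠ j`. -/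
lemma T_eO {i j k : Fin m} (h : i ≠ j) (hkj : k ≠ j) (c : F) : (levO (TT h c)).1 *ᵥ eO k = (eO k : VO m → F) := by
  refine eich_fix (eich_T h c) ?_ ?_
  · rw [pol_smul_right (nd_O h2), pol_fO h2]
    simp [eO, Pi.single_apply, hkj]
  · rw [pol_eO h2]
    simp [eO, Pi.single_apply]

/-- Two isometries with the same effect on `e_k` and the parameter: a general commutation. -/
lemma comm_of_fix {g h' : GeneralLinearGroup (VO m) F} {p b : VO m → F} (hg : g ∈ isometryGroup F (quadFormOdd m F))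
    (h3 : Eich (quadFormOdd m F) h' p b) (hp : g.1 *ᵥ p = p) (hb : g.1 *ᵥ b = b) : g * h' * g⁻¹ = h' := by
  have := h3.conj hg
  rw [hp, hb] at this
  exact Eich.unique' this h3

lemma eich_alt {g : GeneralLinearGroup (VO m) F} {k j : Fin m} {c : F} (h : Eich (quadFormOdd m F) g (eO k) (c • eO j)) :
    Eich (quadFormOdd m F) g (eO j) ((-c) • eO k) := by
  intro x
  have hQ := nd_O (m := m) h2
  have e1 := h x
  rw [pol_smul_right hQ, pol_eO h2, pol_eO h2, hQ.smul, Q_eO] at e1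
  rw [e1, pol_smul_right hQ, pol_eO h2, pol_eO h2, hQ.smul, Q_eO]
  simp only [mul_zero, zero_mul, zero_smul, sub_zero]
  funext r
  simp only [Pi.add_apply, Pi.sub_apply, Pi.smul_apply, smul_eq_mul]
  ring

end targets

variable (hm : 3 ≤ m) (h2 : (2 : F) ≠ 0) (hcen : π.ker ≤ center Γ) (Hθ : BTheta D) (h1 : ∀ l, π (D.lam l) = levO l)
  (hM : ∀ g, π (D.M g) = blk D.b g)

/-- The unit `2`. -/
def twoU (h2 : (2 : F) ≠ 0) : Fˣ := Units.mk0 2 h2

omit [Fintype F] in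
lemma twoU_coe (h2 : (2 : F) ≠ 0) : ((twoU h2 : Fˣ) : F) = 2 := rfl

lemma third (hm : 3 ≤ m) (k j : Fin m) : ∃ l, k ≠ l ∧ j ≠ l := by
  obtain ⟨l, h3, h4⟩ := Cfsg.Agent.Lib.Classical.Transvections.exists_third_index (ι := Fin m)
    (by rw [Fintype.card_fin]; exact hm) k j
  exact ⟨l, h3, h4.symm⟩

include hm h2 hcen Hθ h1 hM

omit [Fintype F] in
lemma pi_act {k j : Fin m} (h : k ≠ j) (g : M2 F) (x z y : F) :
    π (D.Mf j g * D.Ek h x z y * (D.Mf j g)⁻¹) = π (D.Ek h (adX g x z y) (adZ g x z y) (adY g x z y)) := by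
  have e1 := eich_pi_Ek h2 h1 hM h x z y
  have e2 := e1.conj (blk_mem_iso j g)
  rw [blk_eO_ne h g, blk_vec] at e2
  rw [map_mul, map_mul, map_inv, pi_Mf h2 h1 hM]
  exact Eich.unique' e2 (eich_pi_Ek h2 h1 hM h _ _ _)

omit [Fintype F] in
lemma twist_aux {i j : Fin m} (h : i ≠ j) {l : Fin m} (hil : i ≠ l) (hjl : j ≠ l) (u : Fˣ) (e : F → M2 F)
    (he : ∀ t, e (t + t) = e t * e t) (hk : ∀ t, kp u (e t) = e (t + t)) (t : F) :
    D.rr j * D.Mf i (e t) * (D.rr j)⁻¹ = D.Mf i (kp (-1) (e t)) := by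
  have hc : Commute (D.lam (tt hil u)) (D.rr j) := scale_comm Hθ hil h.symm hjl u wn
  have hπ : ∀ t, π (D.rr j * D.Mf i (e t) * (D.rr j)⁻¹) = π (D.Mf i (kp (-1) (e t))) := by
    intro t
    rw [map_mul, map_mul, map_inv, pi_Mf h2 h1 hM, pi_Mf h2 h1 hM, pi_rr h2 h1 hM]
    exact blk_twist h2 h _
  set s := D.lam (tt hil u) with hs
  have hm' : ∀ g, s * D.Mf i g * s⁻¹ = D.Mf i (kp u g) := fun g => Hθ.mu (mu_tt_left hil u) g
  have h3 : s * D.rr j = D.rr j * s := hc.eq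
  have h4 : (D.rr j)⁻¹ * s⁻¹ = s⁻¹ * (D.rr j)⁻¹ := by
    rw [← _root_.mul_inv_rev, ← _root_.mul_inv_rev, h3]
  refine scale_eq (f := fun t => D.rr j * D.Mf i (e t) * (D.rr j)⁻¹) (f' := fun t => D.Mf i (kp (-1) (e t)))
    (s := s) ?_ ?_ ?_ ?_ ?_ t
  · intro t
    simp only [he, map_mul]
    group
  · intro t
    simp only [he, map_mul]
  · intro t
    exact inv_mul_mem_center hcen (hπ t)
  · intro t
    rw [← hk, ← hm']
    calc s * (D.rr j * D.Mf i (e t) * (D.rr j)⁻¹) * s⁻¹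
        = (s * D.rr j) * D.Mf i (e t) * ((D.rr j)⁻¹ * s⁻¹) := by group
      _ = (D.rr j * s) * D.Mf i (e t) * (s⁻¹ * (D.rr j)⁻¹) := by rw [h3, h4]
      _ = _ := by group
  · intro t
    rw [hm', ← hk, kp_kp, kp_kp, mul_comm]

lemma rel_twist {i j : Fin m} (h : i ≠ j) (g : M2 F) : D.rr j * D.Mf i g * (D.rr j)⁻¹ = D.Mf i (kp (-1) g) := by
  obtain ⟨l, hil, hjl⟩ := third hm i j
  refine m2_induction (P := fun g => D.rr j * D.Mf i g * (D.rr j)⁻¹ = D.Mf i (kp (-1) g)) ?_ ?_ ?_ ?_ ?_ g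
  · simp
  · intro d
    refine twist_aux hm h2 hcen Hθ h1 hM h hil hjl (twoU h2) uu (fun t => uu_add t t) ?_ d
    intro t
    rw [kp_uu, twoU_coe, two_mul]
  · intro d
    refine twist_aux hm h2 hcen Hθ h1 hM h hil hjl (twoU h2)⁻¹ ll (fun t => ll_add t t) ?_ d
    intro t
    rw [kp_ll, inv_inv, twoU_coe, two_mul]
  · intro g g' e e'
    simp only [map_mul]
    rw [← e, ← e']
    group
  · intro g e
    simp only [map_inv]
    rw [← e]
    group

lemma rel_YT {k j : Fin m} (h : k ≠ j) (z y : F) : Commute (D.Y k z) (D.T h y) := by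
  obtain ⟨l, hkl, hjl⟩ := third hm k j
  have hlj : l ≠ j := hjl.symm
  have e := T_conj_next (F := F) hkl hlj h y 1
  rw [mul_one] at e
  set a := D.lam (TT hkl y) with ha
  set b := D.lam (TT hlj (1 : F)) with hb
  have hT : D.T h y = a * b * a⁻¹ * b⁻¹ := by
    have e' := congrArg D.lam e
    simp only [map_mul, map_inv] at e'
    have e2 : a * b * a⁻¹ = D.T h y * b := e'
    rw [e2]
    group
  have hE := eich_pi_Y h2 h1 hM (π := π) (D := D) k z
  have hcomm : ∀ (c : SpecialLinearGroup (Fin m) F), levO c ∈ isometryGroup F (quadFormOdd m F) →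
      (levO c).1 *ᵥ eO k = eO k → D.lam c * D.Y k z * (D.lam c)⁻¹ * (D.Y k z)⁻¹ ∈ center Γ := by
    intro c hc1 hc2
    apply hcen
    rw [MonoidHom.mem_ker, map_mul, map_mul, map_mul, map_inv, map_inv, h1]
    have hu : (levO c).1 *ᵥ (z • uO) = z • (uO : VO m → F) := by
      rw [mulVec_smul, levO_uO]
    rw [comm_of_fix h2 hc1 hE hc2 hu]
    group
  have hA := hcomm (TT hkl y) (levO_mem_iso _) (T_eO h2 hkl hkl.symm.symm y |> fun _ => ?_)
  · have hB := hcomm (TT hlj (1 : F)) (levO_mem_iso _) (T_eO h2 hlj h 1)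
    rw [hT]
    exact (comm_of_comm hA hB).symm
  · exact T_eO h2 hkl hkl y

lemma rel_YZ {k j : Fin m} (h : k ≠ j) (z x : F) : Commute (D.Y k z) (D.Z h x) := by
  have h3 := rel_YT hm h2 hcen Hθ h1 hM h (-z) (-x)
  have h4 := h3.map (MulAut.conj (D.rr j)).toMonoidHom
  simp only [MulEquiv.toMonoidHom_eq_coe, MonoidHom.coe_coe, MulAut.conj_apply] at h4
  have e1 : D.rr j * D.Y k (-z) * (D.rr j)⁻¹ = D.Y k z := by
    have := rel_twist hm h2 hcen Hθ h1 hM h (uu (-z))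
    rw [kp_uu] at this
    simpa [BData.Y] using this
  rw [e1] at h4
  exact h4

lemma rel_ZT {k j : Fin m} (h : k ≠ j) (x y : F) : Commute (D.Z h x) (D.T h y) := by
  have hYT := rel_YT hm h2 hcen Hθ h1 hM h
  have hYZ := rel_YZ hm h2 hcen Hθ h1 hM h
  have hY : ∀ c d : F, Commute (D.Y k c) (D.Y k d) := by
    intro c d
    change _ = _
    rw [← D.Y_add, ← D.Y_add, add_comm]
  have hZ : ∀ c d : F, Commute (D.Z h c) (D.Z h d) := by
    intro c d
    change _ = _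
    rw [← D.Z_add, ← D.Z_add, add_comm]
  set z : F := x / 2 with hz
  have hzx : 2 * z = x := by
    rw [hz]
    field_simp
  -- conjugating by `Y_j(1)`
  set s := D.Mf j (uu (1 : F)) with hs
  have c0 : Commute (s * D.Y k z * s⁻¹) (s * D.T h y * s⁻¹) := by
    have := (hYT z y).map (MulAut.conj s).toMonoidHom
    simpa using this
  have e1 := pi_act hm h2 hcen Hθ h1 hM h (uu (1 : F)) 0 z 0
  have e2 := pi_act hm h2 hcen Hθ h1 hM h (uu (1 : F)) 0 0 y
  rw [D.Ek_Y] at e1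
  rw [D.Ek_T] at e2
  simp only [adX_uu, adZ_uu, adY_uu] at e1 e2
  have c1 := inv_mul_mem_center hcen e1.symm
  have c2 := inv_mul_mem_center hcen e2.symm
  -- drop the central factors
  set A := D.Ek h (0 + 2 * 1 * z - 1 ^ 2 * 0) (z - 1 * 0) 0 with hA
  set B := D.Ek h (0 + 2 * 1 * 0 - 1 ^ 2 * y) (0 - 1 * y) y with hB
  have c3 : Commute A B := by
    have eA : s * D.Y k z * s⁻¹ = A * (A⁻¹ * (s * D.Y k z * s⁻¹)) := by group
    have eB : s * D.T h y * s⁻¹ = B * (B⁻¹ * (s * D.T h y * s⁻¹)) := by group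
    set u := A⁻¹ * (s * D.Y k z * s⁻¹) with hu
    set v := B⁻¹ * (s * D.T h y * s⁻¹) with hv
    have hu' : u ∈ center Γ := c1
    have hv' : v ∈ center Γ := c2
    rw [eA, eB] at c0
    have h5 : A * u * (B * v) = B * v * (A * u) := c0
    have h6 : A * B * (u * v) = B * A * (u * v) := by
      calc A * B * (u * v) = A * (u * B) * v := by
            rw [← mem_center_iff.1 hu' B]; group
        _ = A * u * (B * v) := by group
        _ = B * v * (A * u) := h5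
        _ = B * (v * A) * u := by group
        _ = B * (A * v) * u := by rw [mem_center_iff.1 hv' A]
        _ = B * A * (v * u) := by group
        _ = B * A * (u * v) := by rw [mem_center_iff.1 hv' u]
    exact mul_right_cancel h6
  have eA : A = D.Z h x * D.Y k z := by
    rw [hA]
    simp only [BData.Ek]
    have e3 : (0 + 2 * 1 * z - 1 ^ 2 * 0 : F) = x := by rw [← hzx]; ring
    have e4 : (z - 1 * 0 : F) = z := by ring
    rw [e3, e4, D.T_zero, mul_one]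
  have eB : B = D.Z h (-y) * D.Y k (-y) * D.T h y := by
    rw [hB]
    simp only [BData.Ek]
    have e3 : (0 + 2 * 1 * 0 - 1 ^ 2 * y : F) = -y := by ring
    have e4 : (0 - 1 * y : F) = -y := by ring
    rw [e3, e4]
  rw [eA, eB] at c3
  set P := D.Z h x
  set Q := D.Y k z
  set R := D.Z h (-y)
  set W := D.Y k (-y)
  set X := D.T h y
  have hQR : Commute Q (R * W * X) :=
    Commute.mul_right (Commute.mul_right (hYZ _ _) (hY _ _)) (hYT _ _)
  have hPR : Commute P (R * W * X) := by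
    have : P = (P * Q) * Q⁻¹ := by group
    rw [this]
    exact c3.mul_left hQR.inv_left
  have hPW : Commute P (R * W) := Commute.mul_right (hZ _ _) (hYZ _ _).symm
  have : X = (R * W)⁻¹ * (R * W * X) := by group
  rw [this]
  exact hPW.inv_right.mul_right hPR

lemma rel_Ek_add {k j : Fin m} (h : k ≠ j) (x z y x' z' y' : F) :
    D.Ek h (x + x') (z + z') (y + y') = D.Ek h x z y * D.Ek h x' z' y' := by
  have c1 : D.T h y * D.Z h x' = D.Z h x' * D.T h y := ((rel_ZT hm h2 hcen Hθ h1 hM h x' y).symm).eq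
  have c2 : D.T h y * D.Y k z' = D.Y k z' * D.T h y := ((rel_YT hm h2 hcen Hθ h1 hM h z' y).symm).eq
  have c3 : D.Y k z * D.Z h x' = D.Z h x' * D.Y k z := (rel_YZ hm h2 hcen Hθ h1 hM h z x').eq
  simp only [BData.Ek, D.Z_add, D.Y_add, D.T_add]
  calc D.Z h x * D.Z h x' * (D.Y k z * D.Y k z') * (D.T h y * D.T h y')
      = D.Z h x * (D.Z h x' * D.Y k z) * (D.Y k z' * D.T h y) * D.T h y' := by group
    _ = D.Z h x * (D.Y k z * D.Z h x') * (D.T h y * D.Y k z') * D.T h y' := by rw [c3, c2]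
    _ = D.Z h x * D.Y k z * (D.Z h x' * D.T h y) * D.Y k z' * D.T h y' := by group
    _ = D.Z h x * D.Y k z * (D.T h y * D.Z h x') * D.Y k z' * D.T h y' := by rw [c1]
    _ = _ := by group

lemma rel_act {k j : Fin m} (h : k ≠ j) (g : M2 F) (x z y : F) :
    D.Mf j g * D.Ek h x z y * (D.Mf j g)⁻¹ = D.Ek h (adX g x z y) (adZ g x z y) (adY g x z y) := by
  obtain ⟨l, hkl, hjl⟩ := third hm k j
  set s := D.lam (tt hkl (twoU h2)) with hs
  have hc : s * D.Mf j g = D.Mf j g * s := (scale_comm Hθ hkl h.symm hjl (twoU h2) g).eq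
  have hc' : (D.Mf j g)⁻¹ * s⁻¹ = s⁻¹ * (D.Mf j g)⁻¹ := by
    rw [← _root_.mul_inv_rev, ← _root_.mul_inv_rev, hc]
  have hadd := rel_Ek_add hm h2 hcen Hθ h1 hM h
  have hX : ∀ x z y x' z' y' : F, adX g (x + x') (z + z') (y + y') = adX g x z y + adX g x' z' y' := by
    intro x z y x' z' y'
    simp only [adX]
    ring
  have hZ : ∀ x z y x' z' y' : F, adZ g (x + x') (z + z') (y + y') = adZ g x z y + adZ g x' z' y' := by
    intro x z y x' z' y'
    simp only [adZ]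
    ring
  have hY : ∀ x z y x' z' y' : F, adY g (x + x') (z + z') (y + y') = adY g x z y + adY g x' z' y' := by
    intro x z y x' z' y'
    simp only [adY]
    ring
  have hscale : ∀ x z y : F, s * D.Ek h x z y * s⁻¹ = D.Ek h (x + x) (z + z) (y + y) := by
    intro x z y
    have := scale_Ek Hθ hkl h hjl (twoU h2) x z y
    rw [twoU_coe, two_mul, two_mul, two_mul] at this
    exact this
  refine scale_eq (A := F × F × F) (f := fun v => D.Mf j g * D.Ek h v.1 v.2.1 v.2.2 * (D.Mf j g)⁻¹)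
    (f' := fun v => D.Ek h (adX g v.1 v.2.1 v.2.2) (adZ g v.1 v.2.1 v.2.2) (adY g v.1 v.2.1 v.2.2)) (s := s) ?_ ?_ ?_ ?_ ?_
    (x, z, y)
  · rintro ⟨x, z, y⟩
    simp only [Prod.fst_add, Prod.snd_add]
    rw [hadd]
    group
  · rintro ⟨x, z, y⟩
    simp only [Prod.fst_add, Prod.snd_add]
    rw [hX, hZ, hY, hadd]
  · rintro ⟨x, z, y⟩
    exact inv_mul_mem_center hcen (pi_act hm h2 hcen Hθ h1 hM h g x z y)
  · rintro ⟨x, z, y⟩
    simp only [Prod.fst_add, Prod.snd_add]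
    rw [← hscale]
    calc s * (D.Mf j g * D.Ek h x z y * (D.Mf j g)⁻¹) * s⁻¹
        = (s * D.Mf j g) * D.Ek h x z y * ((D.Mf j g)⁻¹ * s⁻¹) := by group
      _ = (D.Mf j g * s) * D.Ek h x z y * (s⁻¹ * (D.Mf j g)⁻¹) := by rw [hc, hc']
      _ = _ := by group
  · rintro ⟨x, z, y⟩
    simp only [Prod.fst_add, Prod.snd_add]
    rw [hX, hZ, hY, hscale]

lemma rel_alt {k j : Fin m} (h : k ≠ j) (c : F) : D.Z h c = D.Z h.symm (-c) := by
  obtain ⟨l, hkl, hjl⟩ := third hm k j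
  set s := D.lam (tt hkl (twoU h2)) with hs
  refine scale_eq (f := fun c => D.Z h c) (f' := fun c => D.Z h.symm (-c)) (s := s) ?_ ?_ ?_ ?_ ?_ c
  · intro c
    exact D.Z_add h c c
  · intro c
    rw [neg_add, D.Z_add]
  · intro c
    refine inv_mul_mem_center hcen ?_
    exact Eich.unique' (eich_alt h2 (eich_pi_Z h2 h1 hM h c)) (eich_pi_Z h2 h1 hM h.symm (-c))
  · intro c
    rw [scale_Z Hθ hkl h hjl (twoU h2) c, twoU_coe, two_mul]
  · intro c
    -- `Z_jk(c') = r_k T_jk(-c') r_k⁻¹`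
    set c' := -c with hc'
    have e1 : s * D.rr k * s⁻¹ = D.Mf k (dd (twoU h2)) * D.rr k := by
      have := Hθ.mu (mu_tt_left hkl (twoU h2)) wn
      rw [kp_wn, map_mul] at this
      exact this
    have e2 : ∀ y : F, s * D.T h.symm y * s⁻¹ = D.T h.symm (y / 2) := by
      intro y
      have e := tt_conj hkl (twoU h2) h.symm y
      have e3 : td k l (twoU h2) j = 1 := by simp [td, h.symm, hjl]
      have e4 : td k l (twoU h2) k = 2 := by simp [td, twoU_coe]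
      have e7 : y * (2 : F)⁻¹ = y / 2 := (div_eq_mul_inv y 2).symm
      rw [e3, e4, one_mul, e7] at e
      simp only [BData.T]
      rw [hs, ← map_inv, ← map_mul, ← map_mul]
      exact congrArg D.lam e
    set w := D.Mf k (dd (twoU h2)) with hw
    have e5 := rel_act hm h2 hcen Hθ h1 hM h.symm (dd (twoU h2)) (c' / 2) 0 0
    rw [adX_dd, adZ_dd, adY_dd, mul_zero, twoU_coe] at e5
    have e6 : (2 : F) ^ 2 * (c' / 2) = -(c + c) := by
      rw [hc']
      field_simp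
      ring
    rw [e6, D.Ek_Z, D.Ek_Z] at e5
    calc s * D.Z h.symm c' * s⁻¹
        = (s * D.rr k * s⁻¹) * (s * D.T h.symm (-c') * s⁻¹) * (s * D.rr k * s⁻¹)⁻¹ := by
          simp only [BData.Z]
          group
      _ = (w * D.rr k) * D.T h.symm (-c' / 2) * (w * D.rr k)⁻¹ := by rw [e1, e2]
      _ = w * (D.rr k * D.T h.symm (-(c' / 2)) * (D.rr k)⁻¹) * w⁻¹ := by
          rw [show -c' / 2 = -(c' / 2) by ring]
          group
      _ = w * D.Z h.symm (c' / 2) * w⁻¹ := rfl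
      _ = _ := e5

/-- All the relations. -/
theorem bhyp0_of_lift : BHyp0 D :=
  { Hθ with
    twist := rel_twist hm h2 hcen Hθ h1 hM
    comm_YT := rel_YT hm h2 hcen Hθ h1 hM
    comm_ZT := rel_ZT hm h2 hcen Hθ h1 hM
    act := rel_act hm h2 hcen Hθ h1 hM
    alt := rel_alt hm h2 hcen Hθ h1 hM }

end main

end Cfsg.Agent.Lib.OddStem
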